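import Cfsg.Agent.H84.Szep.BTwo
import Cfsg.Agent.H95.Szep.Basic
import Cfsg.Agent.H995.CopB
import Cfsg.Agent.H149.Sp.Baby
import Cfsg.Agent.H332.BabyUpper

/-!
# Szep's conjecture for the Baby Monster (helper84, for S2273)

Let `B = C(a) C(b)`, `a`, `b` of prime orders, 47 a divisor of `|C(a)|`. By the engine of helper995 `C(a)` has a normal
subgroup `K` of order prime to 47, whose index divides `47 * 46 * 48`; the 2-rank of `B` is 14, and the order of 2 modulo 47
is 23, so `K` has odd order. So `2 ^ 36` divides `|C(b)|`. Further 31 does not divide `|C(a)|`, so `b` is not an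
involution, against `BTwo.not_dvd_cent`.
-/

set_option autoImplicit false

namespace Cfsg.Agent.H84.Szep.SzB

open Subgroup Cfsg Cfsg.Agent.H530.Cop Cfsg.Agent.H995.CopEngine Cfsg.Agent.H105.Sz Cfsg.Agent.H95.Szep
open scoped Pointwise

universe u

theorem pow_dvd_aux {i j k n c : ℕ} (h : 2 ^ k ∣ n * c) (hn : ¬ 2 ^ (i + 1) ∣ n) (hk : k = i + j) : 2 ^ j ∣ c := by
  subst hk
  have ho0 : n ≠ 0 := by rintro rfl; exact hn (dvd_zero _)
  obtain ⟨a, o', ho', rfl⟩ := Nat.exists_eq_two_pow_mul_odd ho0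
  have ha : a ≤ i := by
    by_contra h5
    exact hn (Dvd.dvd.mul_right (pow_dvd_pow 2 (by omega)) _)
  have h1 : 2 ^ a * 2 ^ (i + j - a) ∣ 2 ^ a * (o' * c) := by
    rw [← pow_add, ← mul_assoc, Nat.add_sub_cancel' (by omega)]
    exact h
  have h2 : 2 ^ (i + j - a) ∣ o' * c := Nat.dvd_of_mul_dvd_mul_left (by positivity) h1
  have h3 : Nat.Coprime (2 ^ (i + j - a)) o' := Nat.Coprime.pow_left _ ((Nat.coprime_two_left).2 ho')
  exact (pow_dvd_pow 2 (by omega)).trans (h3.dvd_of_dvd_mul_left h2)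

/-- the central involutions of a 2-group, with the identity -/
def om {H : Type*} [Group H] (P : Subgroup H) : Subgroup H where
  carrier := {x | x ∈ P ∧ x * x = 1 ∧ ∀ y ∈ P, x * y = y * x}
  one_mem' := ⟨P.one_mem, one_mul _, fun y _ => by rw [one_mul, mul_one]⟩
  mul_mem' := by
    rintro a b ⟨ha, ha2, hac⟩ ⟨hb, hb2, hbc⟩
    refine ⟨P.mul_mem ha hb, ?_, fun y hy => ?_⟩
    · calc a * b * (a * b) = a * (b * a) * b := by group
        _ = a * (a * b) * b := by rw [hbc a ha]
        _ = (a * a) * (b * b) := by group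
        _ = 1 := by rw [ha2, hb2, one_mul]
    · rw [mul_assoc, hbc y hy, ← mul_assoc, hac y hy, mul_assoc]
  inv_mem' := by
    rintro a ⟨ha, ha2, hac⟩
    have h1 : a⁻¹ = a := inv_eq_of_mul_eq_one_left ha2
    rw [h1]
    exact ⟨ha, ha2, hac⟩

/-- **odd order from the 2-rank** -/
theorem odd_of_rank {G : Type u} [Group G] [Finite G] {H : Subgroup G} {r m : ℕ} (hr : r.Prime) (hr2 : 2 ≠ r)
    (K : Subgroup H) [K.Normal] (hrK : ¬ r ∣ Nat.card K) {w : H} (hw : orderOf w = r)
    (hrank : PRankLE 2 m G) (hm : ∀ i, 1 ≤ i → i ≤ m → ¬ r ∣ 2 ^ i - 1)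
    (hna : ∀ t : G, orderOf t = 2 → (w : G) * t ≠ t * w) : ¬ 2 ∣ Nat.card K := by
  intro h2
  have : Fact r.Prime := ⟨hr⟩
  have hf2 : Fact (Nat.Prime 2) := ⟨Nat.prime_two⟩
  have hwr : w ^ r = 1 := by rw [← hw, pow_orderOf_eq_one]
  obtain ⟨P, hP⟩ := exists_fixed hr K hrK hwr (p := 2)
  set P' : Subgroup H := (P : Subgroup K).map K.subtype with hP'
  have hPp : IsPGroup 2 P' := P.2.map _
  have hPN : P' ≤ K := Subgroup.map_subtype_le _
  have hwn : w ∈ normalizer (P' : Set H) := by
    have h1 : ∀ (g : H), (MulAut.conjNormal g : MulAut K) • P = P → ∀ x ∈ P', g * x * g⁻¹ ∈ P' := by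
      intro g hg x hx
      obtain ⟨y, hy, rfl⟩ := hx
      have h2 : (MulAut.conjNormal g : MulAut K) • y ∈ (MulAut.conjNormal g : MulAut K) • (P : Subgroup K) :=
        Subgroup.smul_mem_pointwise_smul _ _ _ hy
      have h3 : ((MulAut.conjNormal g : MulAut K) • (P : Subgroup K)) = (P : Subgroup K) := by
        have h4 := congrArg (fun Q : Sylow 2 K => (Q : Subgroup K)) hg
        exact h4
      rw [h3] at h2
      refine ⟨_, h2, ?_⟩
      show ((MulAut.conjNormal g y : K) : H) = g * y * g⁻¹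
      exact MulAut.conjNormal_apply g y
    have hP2 : (MulAut.conjNormal w⁻¹ : MulAut K) • P = P := by
      conv_lhs => rw [← hP]
      rw [map_inv, inv_smul_smul]
    rw [Subgroup.mem_normalizer_iff]
    intro x
    constructor
    · exact h1 w hP x
    · intro hx
      have h2 := h1 w⁻¹ hP2 _ hx
      have h3 : w⁻¹ * (w * x * w⁻¹) * w⁻¹⁻¹ = x := by group
      rwa [h3] at h2
  -- `w` normalizes `om P'`
  have hAn : ∀ g ∈ normalizer (P' : Set H), ∀ x ∈ om P', g * x * g⁻¹ ∈ om P' := by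
    rintro g hg x ⟨hx, hx2, hxc⟩
    refine ⟨(mem_normalizer_iff.1 hg x).1 hx, ?_, fun y hy => ?_⟩
    · calc g * x * g⁻¹ * (g * x * g⁻¹) = g * (x * x) * g⁻¹ := by group
        _ = 1 := by rw [hx2]; group
    · have hy' : g⁻¹ * y * g ∈ P' := by
        have := (mem_normalizer_iff.1 (inv_mem hg) y).1 hy
        rwa [inv_inv] at this
      calc g * x * g⁻¹ * y = g * (x * (g⁻¹ * y * g)) * g⁻¹ := by group
        _ = g * ((g⁻¹ * y * g) * x) * g⁻¹ := by rw [hxc _ hy']
        _ = y * (g * x * g⁻¹) := by group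
  have hwA : w ∈ normalizer (om P' : Set H) := by
    rw [mem_normalizer_iff]
    intro x
    constructor
    · exact hAn w hwn x
    · intro hx
      have h3 := hAn w⁻¹ (inv_mem hwn) _ hx
      have h4 : w⁻¹ * (w * x * w⁻¹) * w⁻¹⁻¹ = x := by group
      rwa [h4] at h3
  -- an involution of `om P'`
  obtain ⟨t, ht, ht2⟩ : ∃ t ∈ om P', orderOf t = 2 := by
    have hnt : Nontrivial P' := by
      rw [nontrivial_iff_ne_bot]
      intro h0
      have h1 : Nat.card P' = Nat.card (P : Subgroup K) := card_map_of_injective K.subtype_injective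
      rw [h0, Subgroup.card_bot, Sylow.card_eq_multiplicity] at h1
      have h3 : 1 ≤ (Nat.card K).factorization 2 :=
        (Nat.prime_two.pow_dvd_iff_le_factorization Nat.card_pos.ne').1 (by rwa [pow_one])
      have h4 : 1 < 2 ^ (Nat.card K).factorization 2 := Nat.one_lt_two_pow (by omega)
      omega
    have hcn : Nontrivial (center P') := hPp.center_nontrivial
    obtain ⟨k, hk⟩ := IsPGroup.iff_card.1 (hPp.to_subgroup (center P'))
    have hdvd : 2 ∣ Nat.card (center P') := by
      rw [hk]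
      refine dvd_pow_self 2 ?_
      rintro rfl
      rw [pow_zero] at hk
      exact (Finite.one_lt_card_iff_nontrivial.2 hcn).ne' hk
    obtain ⟨c, hc⟩ := exists_prime_orderOf_dvd_card' 2 hdvd
    refine ⟨((c : P') : H), ⟨(c : P').2, ?_, fun y hy => ?_⟩, ?_⟩
    · have h3 : ((c : P') : H) ^ 2 = 1 := by
        have h4 : c ^ 2 = 1 := by rw [← hc, pow_orderOf_eq_one]
        exact congrArg (fun v : center P' => ((v : P') : H)) h4
      rwa [pow_two] at h3
    · exact (congrArg Subtype.val (mem_center_iff.1 c.2 ⟨y, hy⟩)).symm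
    · rw [Subgroup.orderOf_coe, Subgroup.orderOf_coe, hc]
  have hAp : IsPGroup 2 (om P') := hPp.to_le (fun x hx => hx.1)
  obtain ⟨v, hv⟩ := IsPGroup.iff_card.1 hAp
  have hvm : v ≤ m := by
    have h3 := hrank ((om P').map H.subtype) ⟨⟨by
      rintro ⟨_, x, hx, rfl⟩ ⟨_, y, hy, rfl⟩
      apply Subtype.ext
      show (x : G) * y = y * x
      exact congrArg Subtype.val (hx.2.2 y hy.1)⟩⟩ (by
      rintro _ ⟨x, hx, rfl⟩
      show (x : G) ^ 2 = 1
      rw [pow_two]
      exact congrArg Subtype.val hx.2.1)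
    rw [card_map_of_injective H.subtype_injective, hv] at h3
    exact (Nat.pow_le_pow_iff_right (by norm_num)).1 h3
  set φ : MulAut (om P') := Subgroup.normalizerMonoidHom (om P') ⟨w, hwA⟩ with hφ
  have hφr : φ ^ r = 1 := by
    rw [hφ, ← map_pow]
    have h1 : (⟨w, hwA⟩ : normalizer (om P' : Set H)) ^ r = 1 := Subtype.ext hwr
    rw [h1, map_one]
  have hcond : Cfsg.Agent.H961.PrimeSection.Cond r (2 ^ v) := by
    intro s i hs hsr hi hd
    have h1 : s = 2 := (Nat.prime_dvd_prime_iff_eq hs Nat.prime_two).1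
      (hs.dvd_of_dvd_pow ((dvd_pow_self s (by omega)).trans hd))
    subst h1
    exact hm i hi (((Nat.pow_dvd_pow_iff_le_right (by norm_num)).1 hd).trans hvm)
  have hφ1 : φ = 1 := Cfsg.Agent.H961.PrimeSection.aut_eq_one Nat.prime_two hr2 hv hcond hφr
  have hcent : w ∈ centralizer (om P' : Set H) := by
    have h2 : (⟨w, hwA⟩ : normalizer (om P' : Set H)) ∈ (Subgroup.normalizerMonoidHom (om P')).ker := hφ1
    rw [Subgroup.normalizerMonoidHom_ker] at h2
    exact h2
  refine hna (t : G) (by rw [Subgroup.orderOf_coe, ht2]) ?_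
  exact (congrArg Subtype.val (mem_centralizer_iff.1 hcent t ht)).symm

/-- **The Baby Monster.** -/
theorem szep_model (hK : AllKnown.{0}) : Szep Spor.BabyMonster := by
  have hf : Finite Spor.BabyMonster := H973.BabyCov.finiteB
  have hc : Nat.card Spor.BabyMonster = 4154781481226426191177580544000000 := H973.BabyCov.cardB
  have hs : IsSimpleGroup Spor.BabyMonster := (S1704.result : Cfsg.IsB Cfsg.Spor.BabyMonster).1
  have hna : ¬ IsMulCommutative Spor.BabyMonster := H995.CopTwo.not_comm_of_card (by rw [hc]; norm_num)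
  have hI : Spor.IsoB Spor.BabyMonster := ⟨MulEquiv.refl _⟩
  have na47 : ∀ x t : Spor.BabyMonster, orderOf x = 47 → orderOf t = 2 → x * t ≠ t * x :=
    H149.Sp.na_b_all hI (by norm_num) (by norm_num) (by norm_num) (by norm_num)
  have na31 : ∀ x t : Spor.BabyMonster, orderOf x = 31 → orderOf t = 2 → x * t ≠ t * x :=
    H149.Sp.na_b_all hI (by norm_num) (by norm_num) (by norm_num) (by norm_num)
  have : Fact (Nat.Prime 47) := ⟨by norm_num⟩
  have : Fact (Nat.Prime 31) := ⟨by norm_num⟩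
  refine szep_of' (r := 47) (by norm_num) (by rw [hc]; norm_num) fun a b ha hb hF hd => ?_
  obtain ⟨K, hKn, h47K, hidx⟩ := exists_normal hK (cent_ne_top hna (ne_one_of_prime ha)) hc H995.CopTwo.lB_valid
    (by norm_num) hd (by norm_num) H995.CopTwo.chkB
    (dvd_mod_one (by norm_num) 1104 24 (by norm_num) (by norm_num) (by norm_num) (by decide))
  obtain ⟨w, hw⟩ := exists_prime_orderOf_dvd_card' 47 hd
  have hw' : orderOf (w : Spor.BabyMonster) = 47 := by rw [Subgroup.orderOf_coe]; exact hw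
  have hodd : ¬ 2 ∣ Nat.card K := odd_of_rank (by norm_num) (by norm_num) K h47K hw H332.BabyUpper.baby_le
    (by intro i h1 h2; interval_cases i <;> norm_num) (fun t ht => na47 w t hw' ht)
  have h31 : ¬ 31 ∣ Nat.card (centralizer ({a} : Set Spor.BabyMonster)) := by
    intro h
    have h6 := pow_dvd_normal K (p := 31) (k := 1) (j := 0) (by norm_num) (by simpa using h) hidx (by norm_num)
    have h7 := pow_dvd_centralizer (by norm_num) K h47K hw (by norm_num) (by norm_num) h6
      (by rw [hc]; exact cond_of_chk (m := 1) (by norm_num) (by norm_num) (by decide))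
    rw [pow_one] at h7
    obtain ⟨y, hy⟩ := exists_prime_orderOf_dvd_card' 31 h7
    have hy' : orderOf (y : Spor.BabyMonster) = 31 := by rw [Subgroup.orderOf_coe]; exact hy
    have hyw : Commute (y : Spor.BabyMonster) w := mem_cent.1 y.2
    apply H149.Sp.not_adj_b
    refine ⟨(y : Spor.BabyMonster) * w, ?_⟩
    rw [hyw.orderOf_mul_eq_mul_orderOf_of_coprime (by rw [hy', hw']; norm_num), hy', hw']
  have h31b : 31 ∣ Nat.card (centralizer ({b} : Set Spor.BabyMonster)) :=
    (hF.prime_dvd (by norm_num) (by rw [hc]; norm_num)).resolve_left h31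
  have hb2 : orderOf b ≠ 2 := by
    intro h
    obtain ⟨y, hy⟩ := exists_prime_orderOf_dvd_card' 31 h31b
    have hy' : orderOf (y : Spor.BabyMonster) = 31 := by rw [Subgroup.orderOf_coe]; exact hy
    exact na31 y b hy' h (mem_cent.1 y.2)
  refine BTwo.not_dvd_cent hb hb2 ?_
  have h1 := hF.card_dvd
  rw [hc] at h1
  refine pow_dvd_aux (i := 5) (k := 41) ((by norm_num : (2 : ℕ) ^ 41 ∣ 4154781481226426191177580544000000).trans h1) ?_ rfl
  intro h
  have h6 := pow_dvd_normal K (p := 2) (k := 1) (j := 5) Nat.prime_two h hidx (by norm_num)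
  rw [pow_one] at h6
  exact hodd h6

theorem szep_b (hK : AllKnown.{0}) {G : Type*} [Group G] [Finite G] [IsSimpleGroup G] (h : Spor.IsoB G) : Szep G := by
  obtain ⟨e⟩ := h
  exact Szep.of_equiv e (szep_model hK)

end Cfsg.Agent.H84.Szep.SzB
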