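import Cfsg.Agent.H84.Szep.MonTwo
import Cfsg.Agent.H819.TwoACent
import Cfsg.Agent.MonsterU.CloseLat

/-!
# The 2-parts of the centralizers of the elements of odd prime order of the Baby Monster (helper84, for S2273)
-/

set_option autoImplicit false

namespace Cfsg.Agent.H84.Szep.BTwo

open Subgroup Cfsg

/-- lifting to a group with centre of order two -/
theorem lift_center {C : Type*} [Group C] [Finite C] {B : Type*} [Group B] (e : C ⧸ center C ≃* B)
    (h2 : Nat.card (center C) = 2) {p : ℕ} (hp : p.Prime) (hp2 : p ≠ 2) {b : B} (hb : orderOf b = p) :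
    ∃ x : C, orderOf x = p ∧ 2 * Nat.card (centralizer ({b} : Set B)) ∣ Nat.card (centralizer ({x} : Set C)) := by
  have hodd : Odd p := hp.odd_of_ne_two hp2
  have : Fact p.Prime := ⟨hp⟩
  have hfB : Finite B := Finite.of_equiv _ e.toEquiv
  let π : C →* B := e.toMonoidHom.comp (QuotientGroup.mk' (center C))
  have hπ : Function.Surjective π := e.surjective.comp (QuotientGroup.mk'_surjective _)
  have hker : ∀ c : C, π c = 1 ↔ c ∈ center C := by
    intro c
    show e (QuotientGroup.mk' _ c) = 1 ↔ _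
    rw [map_eq_one_iff e e.injective, ← MonoidHom.mem_ker, QuotientGroup.ker_mk']
  have hsq : ∀ c ∈ center C, c ^ 2 = 1 := by
    intro c hc
    have h4 := orderOf_dvd_natCard (⟨c, hc⟩ : center C)
    rw [h2, Subgroup.orderOf_mk] at h4
    exact orderOf_dvd_iff_pow_eq_one.1 h4
  obtain ⟨y, rfl⟩ := hπ b
  have hy : y ^ p ∈ center C := by rw [← hker, map_pow, ← hb, pow_orderOf_eq_one]
  have hyy : y ^ p * y ^ p = 1 := by rw [← pow_two]; exact hsq _ hy
  have hx : (y ^ (p + 1)) ^ p = 1 := by
    obtain ⟨m, hm⟩ := hodd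
    have e1 : (p + 1) * p = p * 2 * (m + 1) := by rw [hm]; ring
    rw [← pow_mul, e1, pow_mul, pow_mul, hsq _ hy, one_pow]
  have hπx : π (y ^ (p + 1)) = π y := by
    rw [map_pow, pow_succ]
    nth_rw 1 [← hb]
    rw [pow_orderOf_eq_one, one_mul]
  generalize hxy : y ^ (p + 1) = x at hx hπx
  have hx1 : x ≠ 1 := by
    rintro rfl
    rw [← hπx, map_one, orderOf_one] at hb
    exact hp.one_lt.ne hb
  refine ⟨x, orderOf_eq_prime hx hx1, ?_⟩
  have hle : (centralizer ({π y} : Set B)).comap π ≤ centralizer ({x} : Set C) := by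
    intro g hg
    rw [mem_comap, mem_centralizer_singleton_iff, ← hπx] at hg
    rw [mem_centralizer_singleton_iff]
    obtain ⟨c, hc⟩ : ∃ c, c = x⁻¹ * (g * x * g⁻¹) := ⟨_, rfl⟩
    have hcz : c ∈ center C := by
      rw [← hker, hc, map_mul, map_mul, map_mul, map_inv, map_inv, hg]
      group
    have h3 : g * x * g⁻¹ = x * c := by rw [hc]; group
    have h4 : (x * c) ^ p = 1 := by
      rw [← h3, conj_pow, hx, mul_one, mul_inv_cancel]
    have h5 : Commute x c := (mem_center_iff.1 hcz x)
    rw [h5.mul_pow, hx, one_mul] at h4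
    obtain ⟨m, hm⟩ := hodd
    rw [hm, pow_succ, pow_mul, hsq c hcz, one_pow, one_mul] at h4
    rw [h4, mul_one, mul_inv_eq_iff_eq_mul] at h3
    exact h3
  refine dvd_trans ?_ (card_dvd_of_le hle)
  have h3 := ((centralizer ({π y} : Set B)).comap π).card_mul_index
  rw [index_comap_of_surjective _ hπ] at h3
  have h4 := (centralizer ({π y} : Set B)).card_mul_index
  have h5 : Nat.card C = 2 * Nat.card B := by
    rw [Subgroup.card_eq_card_quotient_mul_card_subgroup (center C), Nat.card_congr e.toEquiv, h2, mul_comm]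
  rw [h5, ← h4, ← mul_assoc] at h3
  exact (Nat.eq_of_mul_eq_mul_right (Nat.pos_of_ne_zero (index_ne_zero_of_finite)) h3).symm.dvd

/-- **`2 ^ 36` does not divide the order of the centralizer of an element of odd prime order of `B`.** -/
theorem not_dvd_cent {b : Spor.BabyMonster} (hr : (orderOf b).Prime) (h2 : orderOf b ≠ 2) :
    ¬ 2 ^ 36 ∣ Nat.card (centralizer ({b} : Set Spor.BabyMonster)) := by
  intro hd
  have := H848.MonsterSetup.finite
  obtain ⟨Q, z, eta, pi, h⟩ := H848.MonsterSetup.exists_chart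
  obtain ⟨v, hv⟩ := Cfsg.Agent.MonsterU.CloseLat.exists_two
  obtain ⟨t, htQ, rfl⟩ := h.eta_surj v
  obtain ⟨-, -, -, hc2, -, ⟨f⟩, -⟩ := H819.TwoACent.main h htQ hv
  obtain ⟨x, hx, hxd⟩ := lift_center f hc2 hr h2 rfl
  refine MonTwo.not_dvd_cent (x := (x : Spor.Monster)) (by rw [Subgroup.orderOf_coe, hx]; exact hr)
    (by rw [Subgroup.orderOf_coe, hx]; exact h2) ?_
  have h3 : 2 ^ 37 ∣ Nat.card (centralizer ({x} : Set ↥(centralizer ({t} : Set Spor.Monster)))) := by
    refine dvd_trans ?_ hxd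
    rw [pow_succ']
    exact mul_dvd_mul_left 2 hd
  refine h3.trans ?_
  rw [← card_map_of_injective (centralizer ({t} : Set Spor.Monster)).subtype_injective]
  refine card_dvd_of_le ?_
  rintro _ ⟨g, hg, rfl⟩
  rw [mem_centralizer_singleton_iff]
  exact congrArg Subtype.val (mem_centralizer_singleton_iff.1 hg)

end Cfsg.Agent.H84.Szep.BTwo
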