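import Cfsg.Agent.H848.MonsterSetup
import Cfsg.Agent.LThreeMB.CoOneFin
import Cfsg.Agent.CoFive.Ranks
import Cfsg.Agent.CpAutMSeven.Ranks
import Cfsg.Agent.MFive.Fus

/-!
# The 2-parts of the centralizers of the elements of odd prime order of the Monster (helper84, for S2273)

* `fr_le` : an element of odd prime order of `Co1` fixes at most `2 ^ 14` elements of `Λ/2Λ`;
* `not_dvd_cent` : `2 ^ 37` does not divide `|C(x)|` for an element `x` of odd prime order of the Monster.
-/

set_option autoImplicit false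

namespace Cfsg.Agent.H84.Szep.MonTwo

open Subgroup Cfsg
open Cfsg.Agent.LThreeMB (fr bL bL_apply)
open Cfsg.Agent.MonsterU Cfsg.Agent.MonsterU.Ch
open Cfsg.Agent.MonsterU.Lam2 (L2 bf bf_comm bf_nondeg eq_of_smul add_self)
open Cfsg.Spor (Co1)

/-! ### Fixed points of elements of odd prime order of `Co1` -/

theorem card_L2 : Nat.card L2 = 2 ^ 24 := Lam2.card_L2

/-- the points of `L2` fixed by `s` -/
def fixSub (s : Co1) : AddSubgroup L2 where
  carrier := {v | s • v = v}
  add_mem' := by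
    intro a b ha hb
    change s • (a + b) = a + b
    rw [smul_add, ha, hb]
  zero_mem' := smul_zero s
  neg_mem' := by
    intro a ha
    change s • (-a) = -a
    rw [smul_neg, ha]

theorem card_fixSub (s : Co1) : Nat.card ↥(fixSub s) = fr s := rfl

theorem fr_dvd (s : Co1) : fr s ∣ 2 ^ 24 := by
  rw [← card_fixSub, ← card_L2]
  exact AddSubgroup.card_addSubgroup_dvd_card _

theorem finite_L2 : Finite L2 := Nat.finite_of_card_ne_zero (by rw [card_L2]; norm_num)

theorem fr_ne {s : Co1} (hs : s ≠ 1) : fr s ≠ 2 ^ 24 := by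
  intro h
  have := finite_L2
  apply hs
  apply eq_of_smul
  intro v
  rw [one_smul]
  have h1 : fixSub s = ⊤ := by
    apply AddSubgroup.eq_top_of_card_eq
    rw [card_fixSub, h, card_L2]
  have h2 : v ∈ fixSub s := by rw [h1]; trivial
  exact h2

theorem fr_mod {s : Co1} {p : ℕ} (hp : p.Prime) (hs : orderOf s = p) : 2 ^ 24 ≡ fr s [MOD p] := by
  classical
  have := finite_L2
  have hf : Fact p.Prime := ⟨hp⟩
  have : Fintype L2 := Fintype.ofFinite _
  let f : Function.End L2 := fun v => s • v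
  have hfn : ∀ n : ℕ, (f ^ n : Function.End L2) = fun v => s ^ n • v := by
    intro n
    induction n with
    | zero =>
      funext v
      rw [pow_zero, pow_zero, one_smul]
      rfl
    | succ n ih =>
      rw [pow_succ', ih]
      funext v
      rw [pow_succ', mul_smul]
      rfl
  have hf1 : f ^ p ^ 1 = 1 := by
    rw [pow_one, hfn, ← hs, pow_orderOf_eq_one]
    funext v
    rw [one_smul]
    rfl
  have h1 := Equiv.Perm.card_fixedPoints_modEq hf1
  rw [← Nat.card_eq_fintype_card, ← Nat.card_eq_fintype_card, card_L2] at h1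
  exact h1

/-- the numbers -/
theorem arith {p k : ℕ} (hp : p = 11 ∨ p = 13 ∨ p = 23) (hk : k ≤ 24) (hk24 : k ≠ 24) (h : 2 ^ 24 ≡ 2 ^ k [MOD p]) :
    k ≤ 14 := by
  by_contra hcon
  push Not at hcon
  unfold Nat.ModEq at h
  rcases hp with rfl | rfl | rfl <;> interval_cases k <;> simp_all

theorem fr_le_big {s : Co1} {p : ℕ} (hp : p = 11 ∨ p = 13 ∨ p = 23) (hpp : p.Prime) (hs : orderOf s = p) :
    fr s ≤ 2 ^ 14 := by
  obtain ⟨k, hk, hf⟩ := (Nat.dvd_prime_pow Nat.prime_two).1 (fr_dvd s)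
  have h1 := fr_mod hpp hs
  rw [hf] at h1 ⊢
  refine Nat.pow_le_pow_right (by norm_num) (arith hp hk ?_ h1)
  intro h24
  refine fr_ne (s := s) ?_ (by rw [hf, h24])
  rintro rfl
  rw [orderOf_one] at hs
  exact hpp.one_lt.ne hs

theorem card_co1 : Nat.card Co1 = 4157776806543360000 := Cfsg.Agent.MonsterU.CoFrameF.card_Co1

theorem finite_co1 : Finite Co1 := Nat.finite_of_card_ne_zero (by rw [card_co1]; norm_num)

/-- **An element of odd prime order of `Co1` fixes at most `2 ^ 14` elements of `Λ/2Λ`.** -/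
theorem fr_le {s : Co1} (hr : (orderOf s).Prime) (h2 : orderOf s ≠ 2) : fr s ≤ 2 ^ 14 := by
  have h1 : orderOf s ∣ 4157776806543360000 := card_co1 ▸ orderOf_dvd_natCard s
  have h3 : (4157776806543360000 : ℕ) = 2 ^ 21 * (3 ^ 9 * (5 ^ 4 * (7 ^ 2 * (11 * (13 * 23))))) := by norm_num
  rw [h3] at h1
  have key : ∀ {q n : ℕ}, q.Prime → orderOf s ∣ q ^ n → orderOf s = q := fun hq h =>
    (Nat.prime_dvd_prime_iff_eq hr hq).1 (hr.dvd_of_dvd_pow h)
  rcases (hr.dvd_mul).1 h1 with h | h
  · exact absurd (key (by norm_num) h) h2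
  rcases (hr.dvd_mul).1 h with h | h
  · rcases Cfsg.Agent.LThreeMB.CoOneFin.coOne.ranks s (key (by norm_num) h) with h4 | h4 | h4 | h4 <;> rw [h4] <;>
      norm_num
  rcases (hr.dvd_mul).1 h with h | h
  · rcases Cfsg.Agent.CoFive.Ranks.ranks s (key (by norm_num) h) with h4 | h4 | h4 <;> rw [h4] <;>
      norm_num
  rcases (hr.dvd_mul).1 h with h | h
  · rcases Cfsg.Agent.CpAutMSeven.Ranks.hranks s (key (by norm_num) h) with h4 | h4 <;> rw [h4] <;>
      norm_num
  rcases (hr.dvd_mul).1 h with h | h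
  · exact fr_le_big (Or.inl rfl) (by norm_num) ((Nat.prime_dvd_prime_iff_eq hr (by norm_num)).1 h)
  rcases (hr.dvd_mul).1 h with h | h
  · exact fr_le_big (Or.inr (Or.inl rfl)) (by norm_num) ((Nat.prime_dvd_prime_iff_eq hr (by norm_num)).1 h)
  · exact fr_le_big (Or.inr (Or.inr rfl)) (by norm_num) ((Nat.prime_dvd_prime_iff_eq hr (by norm_num)).1 h)

/-! ### Isotropic subspaces of `Λ/2Λ` -/

theorem card_isotropic (W : AddSubgroup L2) (hW : ∀ v ∈ W, ∀ w ∈ W, bf v w = 0) : Nat.card W ≤ 2 ^ 12 := by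
  have hfin := finite_L2
  let W' : Submodule (ZMod 2) L2 := AddSubgroup.toZModSubmodule 2 W
  have hcW : Nat.card W' = Nat.card W := rfl
  have hnd : bL.Nondegenerate :=
    ⟨fun v hv => bf_nondeg hv, fun v hv => bf_nondeg fun y => by rw [bf_comm]; exact hv y⟩
  have hle : W' ≤ bL.orthogonal W' := by
    intro v hv w hw
    exact hW w hw v hv
  have h1 := LinearMap.BilinForm.finrank_orthogonal hnd W'
  have h2 := Submodule.finrank_mono hle
  have h3 : Module.finrank (ZMod 2) W' ≤ Module.finrank (ZMod 2) L2 := Submodule.finrank_le _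
  have key : ∀ (V : Type) [AddCommGroup V] [Module (ZMod 2) V] [Finite V],
      Nat.card V = 2 ^ Module.finrank (ZMod 2) V := by
    intro V _ _ _
    have h5 := Module.natCard_eq_pow_finrank (K := ZMod 2) (V := V)
    rw [h5, Nat.card_zmod]
  have h4 : Module.finrank (ZMod 2) L2 = 24 := by
    have h5 := key L2
    rw [card_L2] at h5
    exact (Nat.pow_right_injective le_rfl h5).symm
  rw [← hcW, key W']
  exact Nat.pow_le_pow_right (by norm_num) (by omega)

/-! ### The local argument -/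

section chart

variable {G : Type*} [Group G] {Q : Subgroup G} {z : G} {eta : G → L2}
  {pi : Subgroup.centralizer ({z} : Set G) →* Co1}

/-- the image of a subgroup of `Q` -/
def img (h : Chart Q z eta pi) (U : Subgroup G) (hU : U ≤ Q) : AddSubgroup L2 where
  carrier := {v | ∃ u ∈ U, eta u = v}
  add_mem' := by
    rintro _ _ ⟨u, hu, rfl⟩ ⟨w, hw, rfl⟩
    exact ⟨u * w, U.mul_mem hu hw, h.eta_mul _ (hU hu) _ (hU hw)⟩
  zero_mem' := ⟨1, U.one_mem, h.eta_one⟩
  neg_mem' := by
    rintro _ ⟨u, hu, rfl⟩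
    refine ⟨u⁻¹, U.inv_mem hu, ?_⟩
    rw [h.eta_inv (hU hu)]
    exact eq_neg_of_add_eq_zero_left (add_self _)

theorem card_le_img (h : Chart Q z eta pi) (U : Subgroup G) (hU : U ≤ Q) :
    Nat.card U ≤ 2 * Nat.card (img h U hU) := by
  classical
  have hfin := finite_L2
  obtain ⟨s, hs⟩ := h.exists_sec
  let f : U → Bool × img h U hU := fun u => (decide ((u : G) = s (eta u)), ⟨eta u, u, u.2, rfl⟩)
  have hf : Function.Injective f := by
    intro u v huv
    have h1 : eta u = eta v := congrArg (fun w => (w.2 : L2)) huv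
    have h2 : decide ((u : G) = s (eta u)) = decide ((v : G) = s (eta v)) := congrArg Prod.fst huv
    have hu := (h.eta_eq (hU u.2) (s (eta u)).2).1 (hs (eta u)).symm
    have hv := (h.eta_eq (hU v.2) (s (eta v)).2).1 (hs (eta v)).symm
    have hz : ∀ y : G, y * z ≠ y := fun y hy => h.large.z_ne (mul_eq_left.1 hy)
    apply Subtype.ext
    rcases hu with hu | hu
    · rw [decide_eq_true hu] at h2
      rw [hu, h1]
      exact (of_decide_eq_true h2.symm).symm
    · have h3 : ¬ (u : G) = s (eta u) := fun h4 => hz _ (hu.symm.trans h4)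
      rw [decide_eq_false h3] at h2
      have h4 : ¬ (v : G) = s (eta v) := of_decide_eq_false h2.symm
      rw [hu, hv.resolve_left h4, h1]
  have h1 := Nat.card_le_card_of_injective f hf
  rwa [Nat.card_prod, Nat.card_eq_fintype_card (α := Bool), Fintype.card_bool] at h1

theorem pow_le_of_dvd_two {a m n : ℕ} (h : 2 ^ a ≤ n * 2 ^ m) (hm : m ≤ 21) (ha : a = 37) : 2 ^ 16 ≤ n := by
  subst ha
  by_contra hcon
  push Not at hcon
  have h1 : n * 2 ^ m < 2 ^ 16 * 2 ^ 21 :=
    lt_of_lt_of_le (Nat.mul_lt_mul_of_pos_right hcon (by positivity))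
      (Nat.mul_le_mul_left _ (Nat.pow_le_pow_right (by norm_num) hm))
  have h2 : (2 : ℕ) ^ 16 * 2 ^ 21 = 2 ^ 37 := by norm_num
  omega

/-- the intersection with `Q` of a large 2-subgroup of `C(z)` -/
theorem card_inf (T : Subgroup G) [Finite T] (hT : IsPGroup 2 T) (hTz : T ≤ centralizer ({z} : Set G))
    (h : Chart Q z eta pi) (hc : 2 ^ 37 ≤ Nat.card T) : 2 ^ 16 ≤ Nat.card (T ⊓ Q : Subgroup G) := by
  let f : T →* Co1 := pi.comp (inclusion hTz)
  have hr : IsPGroup 2 f.range := IsPGroup.of_surjective hT f.rangeRestrict f.rangeRestrict_surjective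
  have hfin := finite_co1
  obtain ⟨m, hm⟩ := IsPGroup.iff_card.1 hr
  have hm21 : m ≤ 21 := by
    by_contra hcon
    push Not at hcon
    have h1 : Nat.card f.range ∣ 4157776806543360000 := card_co1 ▸ card_subgroup_dvd_card f.range
    rw [hm] at h1
    have h2 : (2 : ℕ) ^ 22 ∣ 4157776806543360000 := (pow_dvd_pow 2 (by omega)).trans h1
    norm_num at h2
  have hk : Nat.card f.ker = Nat.card (T ⊓ Q : Subgroup G) := by
    refine Nat.card_congr ⟨fun x => ⟨(x : T), (x : T).2, (h.pi_eq_one _).1 x.2⟩,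
      fun y => ⟨⟨y, y.2.1⟩, (h.pi_eq_one _).2 y.2.2⟩, fun x => rfl, fun y => rfl⟩
  have h1 := f.ker.card_mul_index
  rw [Subgroup.index_ker, hm, hk] at h1
  rw [← h1] at hc
  exact pow_le_of_dvd_two hc hm21 rfl

theorem local_false (h : Chart Q z eta pi) {x : G} (hr : (orderOf x).Prime) (h2 : orderOf x ≠ 2)
    (T : Subgroup G) [Finite T] (hT : IsPGroup 2 T) (hTz : T ≤ centralizer ({z} : Set G))
    (hTx : T ≤ centralizer ({x} : Set G)) (hc : 2 ^ 37 ≤ Nat.card T) : False := by
  have hfin := finite_L2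
  have hcx : ∀ u ∈ T, u * x = x * u := fun u hu => mem_centralizer_singleton_iff.1 (hTx hu)
  have h16 := card_inf T hT hTz h hc
  set U : Subgroup G := T ⊓ Q with hU
  have hUQ : U ≤ Q := inf_le_right
  have h15 := card_le_img h U hUQ
  by_cases hab : ∀ u ∈ U, ∀ v ∈ U, u * v = v * u
  · have h1 := card_isotropic (img h U hUQ) (by
      rintro _ ⟨u, hu, rfl⟩ _ ⟨v, hv, rfl⟩
      exact (h.comm_iff (hUQ hu) (hUQ hv)).1 (hab u hu v hv))
    omega
  · push Not at hab
    obtain ⟨u, hu, v, hv, huv⟩ := hab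
    have hzU : z ∈ U := by
      have h1 := (h.large.comm u (hUQ hu) v (hUQ hv)).resolve_left huv
      have h3 : z = (v * u)⁻¹ * (u * v) := by rw [h1]; group
      rw [h3]
      exact U.mul_mem (U.inv_mem (U.mul_mem hv hu)) (U.mul_mem hu hv)
    have hzx : x * z = z * x := (hcx z hzU.1).symm
    let x' : centralizer ({z} : Set G) := ⟨x, mem_centralizer_singleton_iff.2 hzx⟩
    have hx' : orderOf x' = orderOf x := by rw [← Subgroup.orderOf_coe]
    have ho : orderOf (pi x') = orderOf x := MFive.orderOf_pi h hr (hr.odd_of_ne_two h2) hx'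
    have hfr := fr_le (s := pi x') (by rw [ho]; exact hr) (by rw [ho]; exact h2)
    have hle : img h U hUQ ≤ fixSub (pi x') := by
      rintro _ ⟨w, hw, rfl⟩
      show pi x' • eta w = eta w
      rw [← h.eta_conj x' w (hUQ hw)]
      congr 1
      show x * w * x⁻¹ = w
      rw [← hcx w hw.1, mul_inv_cancel_right]
    have h1 := AddSubgroup.card_le_of_le hle
    rw [card_fixSub] at h1
    omega

/-- the order of `C(z)` -/
theorem dvd_card_C [Finite G] (h : Chart Q z eta pi) : 2 ^ 46 ∣ Nat.card (centralizer ({z} : Set G)) := by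
  have h1 := pi.ker.card_mul_index
  have hQC : Q ≤ centralizer ({z} : Set G) := fun x hx =>
    mem_centralizer_singleton_iff.2 (h.large.comm_z x hx)
  have hk : Nat.card pi.ker = 2 ^ 25 := by
    rw [← h.card_Q]
    exact Nat.card_congr ⟨fun x => ⟨(x : centralizer ({z} : Set G)), (h.pi_eq_one _).1 x.2⟩,
      fun y => ⟨⟨y, hQC y.2⟩, (h.pi_eq_one _).2 y.2⟩, fun x => rfl, fun y => rfl⟩
  rw [Subgroup.index_ker, MonoidHom.range_eq_top.2 h.pi_surj, hk, Subgroup.card_top, card_co1] at h1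
  rw [← h1]
  norm_num

/-- a 2-subgroup is conjugate to a subgroup of `C(z)` -/
theorem exists_conj_le [Finite G] {C T : Subgroup G} (hC : ¬ 2 ∣ C.index) (hT : IsPGroup 2 T) :
    ∃ g : G, ∀ t ∈ T, g * t * g⁻¹ ∈ C := by
  have : Fact (Nat.Prime 2) := ⟨Nat.prime_two⟩
  have h1 : T.relIndex C = T.relIndex C := rfl
  -- the action of `T` on the cosets
  have h2 := hT.card_modEq_card_fixedPoints (G ⧸ C)
  have h3 : Nat.card (MulAction.fixedPoints T (G ⧸ C)) ≠ 0 := by
    intro h0
    rw [h0] at h2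
    exact hC ((Nat.modEq_zero_iff_dvd).1 h2)
  obtain ⟨⟨q, hq⟩⟩ : Nonempty (MulAction.fixedPoints T (G ⧸ C)) := by
    by_contra hcon
    rw [not_nonempty_iff] at hcon
    exact h3 Nat.card_of_isEmpty
  induction q using QuotientGroup.induction_on with | H k =>
  refine ⟨k⁻¹, fun t ht => ?_⟩
  have h4 := hq ⟨t, ht⟩
  have h5 : (QuotientGroup.mk (t * k) : G ⧸ C) = QuotientGroup.mk k := h4
  have h6 := QuotientGroup.eq.1 h5.symm
  rw [inv_inv]
  rwa [← mul_assoc] at h6

/-- **The bound for a group with a chart.** -/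
theorem not_dvd_of_chart [Finite G] (h : Chart Q z eta pi) (hG : ¬ 2 ^ 47 ∣ Nat.card G) {x : G}
    (hr : (orderOf x).Prime) (h2 : orderOf x ≠ 2) : ¬ 2 ^ 37 ∣ Nat.card (centralizer ({x} : Set G)) := by
  intro hd
  have : Fact (Nat.Prime 2) := ⟨Nat.prime_two⟩
  have hC : ¬ 2 ∣ (centralizer ({z} : Set G)).index := by
    intro h3
    apply hG
    rw [← (centralizer ({z} : Set G)).card_mul_index, pow_succ]
    exact mul_dvd_mul (dvd_card_C h) h3
  obtain ⟨T, hT⟩ := Sylow.exists_subgroup_card_pow_prime 2 hd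
  have hTp : IsPGroup 2 T := IsPGroup.of_card hT
  obtain ⟨g, hg⟩ := exists_conj_le (T := T.map (centralizer ({x} : Set G)).subtype) hC (hTp.map _)
  set T1 : Subgroup G := (T.map (centralizer ({x} : Set G)).subtype).map (MulAut.conj g).toMonoidHom with hT1
  have hc : Nat.card T1 = 2 ^ 37 := by
    rw [hT1, card_map_of_injective (MulAut.conj g).injective, card_map_of_injective (subtype_injective _), hT]
  have hx1 : orderOf (g * x * g⁻¹) = orderOf x := MulEquiv.orderOf_eq (MulAut.conj g) x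
  refine local_false h (x := g * x * g⁻¹) (by rw [hx1]; exact hr) (by rw [hx1]; exact h2) T1
    ((hTp.map _).map _) ?_ ?_ hc.ge
  · rintro _ ⟨t, ht, rfl⟩
    exact hg t ht
  · rintro _ ⟨_, ⟨t, ht, rfl⟩, rfl⟩
    have h3 := mem_centralizer_singleton_iff.1 t.2
    rw [mem_centralizer_singleton_iff]
    show g * (t : G) * g⁻¹ * (g * x * g⁻¹) = g * x * g⁻¹ * (g * (t : G) * g⁻¹)
    calc g * (t : G) * g⁻¹ * (g * x * g⁻¹) = g * ((t : G) * x) * g⁻¹ := by group
      _ = g * (x * t) * g⁻¹ := by rw [h3]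
      _ = g * x * g⁻¹ * (g * (t : G) * g⁻¹) := by group

end chart

/-- **`2 ^ 37` does not divide the order of the centralizer of an element of odd prime order of the Monster.** -/
theorem not_dvd_cent {x : Spor.Monster} (hr : (orderOf x).Prime) (h2 : orderOf x ≠ 2) :
    ¬ 2 ^ 37 ∣ Nat.card (centralizer ({x} : Set Spor.Monster)) := by
  have := H848.MonsterSetup.finite
  obtain ⟨Q, z, eta, pi, h⟩ := H848.MonsterSetup.exists_chart
  exact not_dvd_of_chart h (by rw [H848.MonsterSetup.card]; norm_num) hr h2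

end Cfsg.Agent.H84.Szep.MonTwo
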